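import Cfsg.Agent.Lib.Th22.Data

/-! Kernel evaluation of words on the matrices. -/

set_option autoImplicit false
set_option maxRecDepth 20000
set_option Elab.async false

namespace Cfsg.Agent.Lib.Th22

theorem word33 : beqT (evalW [gD, gUi, gD, gB, gC, gA, gB, gD, gU, gD, gB, gA, gC, gB, gC, gE, gD, gUi, gD, gB, gC, gA, gB, gE, gUi]) idT = true := by decide +kernel

end Cfsg.Agent.Lib.Th22
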