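import Cfsg.Agent.Lib.Th22.Data

/-! Kernel evaluation of words on the matrices. -/

set_option autoImplicit false
set_option maxRecDepth 20000
set_option Elab.async false

namespace Cfsg.Agent.Lib.Th22

theorem word10 : beqT (evalW [gA, gD, gC, gD, gC, gD, gC, gD, gC]) idT = true := by decide +kernel

theorem word15 : beqT (evalW [gSi, gA, gS, gA]) idT = true := by decide +kernel

theorem word18 : beqT (evalW [gS, gD, gS, gD]) idT = true := by decide +kernel

theorem word29 : beqT (evalW [gUi, gC, gU, gC]) idT = true := by decide +kernel

theorem word32 : beqT (evalW [gUi, gB, gC, gA, gB, gU, gB, gA, gC, gB, gE]) idT = true := by decide +kernel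

theorem word40 : beqT (evalW [gA, gA]) idT = true := by decide +kernel

theorem word51 : beqT (evalW [gT, gTi]) idT = true := by decide +kernel

end Cfsg.Agent.Lib.Th22
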