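import Cfsg.Agent.Lib.Th22.Data

/-! Kernel evaluation of words on the matrices. -/

set_option autoImplicit false
set_option maxRecDepth 20000
set_option Elab.async false

namespace Cfsg.Agent.Lib.Th22

theorem word2 : beqT (evalW [gC, gC]) idT = true := by decide +kernel

theorem word11 : beqT (evalW [gC, gE, gC, gE]) idT = true := by decide +kernel

theorem word14 : beqT (evalW [gS, gS, gS, gS, gS, gS, gS]) idT = true := by decide +kernel

theorem word26 : beqT (evalW [gTi, gS, gT, gSi, gSi]) idT = true := by decide +kernel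

theorem word28 : beqT (evalW [gUi, gA, gU, gA]) idT = true := by decide +kernel

theorem word35 : beqT (evalW [gE, gSi, gSi, gUi, gS, gS, gE, gSi, gSi, gU, gS, gS]) idT = true := by decide +kernel

theorem word38 : beqT (evalW [gD, gSi, gSi, gU, gS, gS, gD, gSi, gSi, gU, gS, gS, gD, gSi, gSi, gU, gS, gS, gD, gSi, gSi, gU, gS, gS, gSi, gSi, gE, gD, gC, gD, gE, gS, gS, gS, gE, gD, gC, gD, gE, gSi, gD, gC, gD, gC, gA]) idT = true := by decide +kernel

theorem word49 : beqT (evalW [gS, gSi]) idT = true := by decide +kernel

end Cfsg.Agent.Lib.Th22
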