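import Cfsg.Agent.Lib.Th22.Data

/-! Kernel evaluation of words on the matrices. -/

set_option autoImplicit false
set_option maxRecDepth 20000
set_option Elab.async false

namespace Cfsg.Agent.Lib.Th22

theorem word5 : beqT (evalW [gA, gB, gA, gB, gA, gB]) idT = true := by decide +kernel

theorem word6 : beqT (evalW [gA, gE, gA, gE]) idT = true := by decide +kernel

theorem word23 : beqT (evalW [gTi, gC, gT, gC]) idT = true := by decide +kernel

theorem word42 : beqT (evalW [gB, gB]) idT = true := by decide +kernel

theorem word46 : beqT (evalW [gD, gD]) idT = true := by decide +kernel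

theorem word53 : beqT (evalW [gU, gUi]) idT = true := by decide +kernel

end Cfsg.Agent.Lib.Th22
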