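import Cfsg.Agent.Lib.Th22.Data

/-! Kernel evaluation of words on the matrices. -/

set_option autoImplicit false
set_option maxRecDepth 20000
set_option Elab.async false

namespace Cfsg.Agent.Lib.Th22

theorem word4 : beqT (evalW [gE, gE]) idT = true := by decide +kernel

theorem word7 : beqT (evalW [gB, gC, gB, gC, gB, gC]) idT = true := by decide +kernel

theorem word12 : beqT (evalW [gD, gE, gD, gE, gD, gE]) idT = true := by decide +kernel

theorem word20 : beqT (evalW [gT, gT, gT]) idT = true := by decide +kernel

theorem word25 : beqT (evalW [gTi, gE, gT, gE]) idT = true := by decide +kernel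

theorem word37 : beqT (evalW [gA, gC, gSi, gUi, gS, gU, gSi, gUi, gS, gU, gSi, gUi, gS, gU, gSi, gUi, gS, gU]) idT = true := by decide +kernel

theorem word39 : beqT (evalW [gA, gA]) idT = true := by decide +kernel

theorem word50 : beqT (evalW [gSi, gS]) idT = true := by decide +kernel

end Cfsg.Agent.Lib.Th22
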