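import Cfsg.Agent.Lib.Th22.Data

/-! Kernel evaluation of words on the matrices. -/

set_option autoImplicit false
set_option maxRecDepth 20000
set_option Elab.async false

namespace Cfsg.Agent.Lib.Th22

theorem word0 : beqT (evalW [gA, gA]) idT = true := by decide +kernel

theorem word3 : beqT (evalW [gD, gD]) idT = true := by decide +kernel

theorem word8 : beqT (evalW [gB, gD, gB, gD]) idT = true := by decide +kernel

theorem word17 : beqT (evalW [gSi, gC, gS, gC]) idT = true := by decide +kernel

theorem word22 : beqT (evalW [gTi, gB, gT, gB]) idT = true := by decide +kernel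

theorem word24 : beqT (evalW [gTi, gD, gT, gD]) idT = true := by decide +kernel

theorem word36 : beqT (evalW [gA, gC, gSi, gUi, gSi, gUi, gSi, gUi]) idT = true := by decide +kernel

theorem word44 : beqT (evalW [gC, gC]) idT = true := by decide +kernel

theorem word48 : beqT (evalW [gE, gE]) idT = true := by decide +kernel

end Cfsg.Agent.Lib.Th22
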