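import Cfsg.Agent.Lib.Th22.Data

/-! Kernel evaluation of words on the matrices. -/

set_option autoImplicit false
set_option maxRecDepth 20000
set_option Elab.async false

namespace Cfsg.Agent.Lib.Th22

theorem word1 : beqT (evalW [gB, gB]) idT = true := by decide +kernel

theorem word9 : beqT (evalW [gB, gE, gB, gE]) idT = true := by decide +kernel

theorem word19 : beqT (evalW [gE, gSi, gE, gS, gSi, gSi, gSi, gE, gS, gS, gS]) idT = true := by decide +kernel

theorem word27 : beqT (evalW [gU, gU, gC, gA]) idT = true := by decide +kernel

theorem word34 : beqT (evalW [gUi, gT, gU, gT]) idT = true := by decide +kernel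

theorem word47 : beqT (evalW [gE, gE]) idT = true := by decide +kernel

theorem word54 : beqT (evalW [gUi, gU]) idT = true := by decide +kernel

end Cfsg.Agent.Lib.Th22
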