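import Cfsg.Agent.Lib.Th22.Data

/-! Kernel evaluation of words on the matrices. -/

set_option autoImplicit false
set_option maxRecDepth 20000
set_option Elab.async false

namespace Cfsg.Agent.Lib.Th22

theorem word16 : beqT (evalW [gSi, gB, gS, gB]) idT = true := by decide +kernel

theorem word21 : beqT (evalW [gTi, gA, gT, gA]) idT = true := by decide +kernel

theorem word30 : beqT (evalW [gUi, gE, gU, gE]) idT = true := by decide +kernel

theorem word31 : beqT (evalW [gD, gE, gUi, gD, gU, gD, gE, gUi, gD, gU]) idT = true := by decide +kernel

theorem word41 : beqT (evalW [gB, gB]) idT = true := by decide +kernel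

theorem word43 : beqT (evalW [gC, gC]) idT = true := by decide +kernel

theorem word45 : beqT (evalW [gD, gD]) idT = true := by decide +kernel

theorem word52 : beqT (evalW [gTi, gT]) idT = true := by decide +kernel

end Cfsg.Agent.Lib.Th22
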