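import Cfsg.Agent.Lib.Th22.Prefix

/-! One section of the long word. -/

set_option autoImplicit false
set_option maxRecDepth 20000
set_option Elab.async false

namespace Cfsg.Agent.Lib.Th22

theorem long3 : beqT (([gB, gC, gD, gE, gB, gC, gD, gE] : List CT).foldl mul pre3) idT = true := by decide +kernel

end Cfsg.Agent.Lib.Th22
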