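import Cfsg.Agent.Lib.Th22.Words
import Cfsg.Agent.Lib.Th22.Long0
import Cfsg.Agent.Lib.Th22.Long1
import Cfsg.Agent.Lib.Th22.Long2
import Cfsg.Agent.Lib.Th22.Long3
import Cfsg.Agent.Lib.Th22.Eval0
import Cfsg.Agent.Lib.Th22.Eval1
import Cfsg.Agent.Lib.Th22.Eval2
import Cfsg.Agent.Lib.Th22.Eval3
import Cfsg.Agent.Lib.Th22.Eval4
import Cfsg.Agent.Lib.Th22.Eval5
import Cfsg.Agent.Lib.Th22.Eval6
import Cfsg.Agent.Lib.Th22.Eval7

/-! All words give the unit matrix. -/

set_option autoImplicit false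
set_option maxRecDepth 20000

namespace Cfsg.Agent.Lib.Th22

theorem word13 : beqT (evalW [gB, gC, gD, gE, gB, gC, gD, gE, gB, gC, gD, gE, gB, gC, gD, gE, gB, gC, gD, gE, gB, gC, gD, gE, gB, gC, gD, gE, gB, gC, gD, gE]) idT = true := by
  have e : ([gB, gC, gD, gE, gB, gC, gD, gE, gB, gC, gD, gE, gB, gC, gD, gE, gB, gC, gD, gE, gB, gC, gD, gE, gB, gC, gD, gE, gB, gC, gD, gE] : List CT) = [gB, gC, gD, gE, gB, gC, gD, gE] ++ [gB, gC, gD, gE, gB, gC, gD, gE] ++ [gB, gC, gD, gE, gB, gC, gD, gE] ++ [gB, gC, gD, gE, gB, gC, gD, gE] := rfl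
  have h := beqT_eq long0
  have h1 := beqT_eq long1
  have h2 := beqT_eq long2
  rw [evalW, e, List.foldl_append, List.foldl_append, List.foldl_append, h, h1, h2]
  exact long3

theorem checkWord_all : ∀ i, i < 55 → checkWord i = true
  | 0, _ => word0
  | 1, _ => word1
  | 2, _ => word2
  | 3, _ => word3
  | 4, _ => word4
  | 5, _ => word5
  | 6, _ => word6
  | 7, _ => word7
  | 8, _ => word8
  | 9, _ => word9
  | 10, _ => word10
  | 11, _ => word11
  | 12, _ => word12
  | 13, _ => word13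
  | 14, _ => word14
  | 15, _ => word15
  | 16, _ => word16
  | 17, _ => word17
  | 18, _ => word18
  | 19, _ => word19
  | 20, _ => word20
  | 21, _ => word21
  | 22, _ => word22
  | 23, _ => word23
  | 24, _ => word24
  | 25, _ => word25
  | 26, _ => word26
  | 27, _ => word27
  | 28, _ => word28
  | 29, _ => word29
  | 30, _ => word30
  | 31, _ => word31
  | 32, _ => word32
  | 33, _ => word33
  | 34, _ => word34
  | 35, _ => word35
  | 36, _ => word36
  | 37, _ => word37
  | 38, _ => word38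
  | 39, _ => word39
  | 40, _ => word40
  | 41, _ => word41
  | 42, _ => word42
  | 43, _ => word43
  | 44, _ => word44
  | 45, _ => word45
  | 46, _ => word46
  | 47, _ => word47
  | 48, _ => word48
  | 49, _ => word49
  | 50, _ => word50
  | 51, _ => word51
  | 52, _ => word52
  | 53, _ => word53
  | 54, _ => word54
  | n + 55, h => absurd h (by omega)

end Cfsg.Agent.Lib.Th22
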