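import Mathlib.Data.Matrix.Mul
import Mathlib.Data.ZMod.Basic
import Mathlib.Algebra.BigOperators.Fin
import Mathlib.Tactic.Ring
import Mathlib.Tactic.Abel

/-!
Packed matrices of size 248 over the field with three elements, for evaluation in the kernel.

A column is a pair of numbers (positions of the entries 1, positions of the entries 2); a matrix is
a binary tree of columns, the child being chosen by the low bit of the index.
A generator matrix is a tree of packed lists `length + 256 * (e₀ + 512 * (e₁ + ...))`, `e = 2 i + sign`.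
-/

set_option autoImplicit false

namespace Cfsg.Agent.Lib.Th22

/-- tree of columns -/
inductive T where
  | leaf (p n : ℕ)
  | node (l r : T)

/-- tree of packed sparse columns -/
inductive CT where
  | leaf (code : ℕ)
  | node (l r : CT)

/-- the entries of a packed list -/
noncomputable def entries (code : ℕ) : List ℕ :=
  Nat.rec (motive := fun _ => ℕ → List ℕ) (fun _ => [])
    (fun _ ih v => Nat.land v 511 :: ih (Nat.shiftRight v 9)) (Nat.land code 255) (Nat.shiftRight code 8)

/-- column `i` of a matrix, handed to `f` -/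
noncomputable def getK {α : Type} (t : T) : ℕ → (ℕ → ℕ → α) → α :=
  T.rec (motive := fun _ => ℕ → (ℕ → ℕ → α) → α) (fun p n _ f => f p n)
    (fun _ _ gl gr i f => Bool.rec (gl (Nat.shiftRight i 1) f) (gr (Nat.shiftRight i 1) f)
      (Nat.beq (Nat.land i 1) 1)) t

/-- positive part of a sum -/
noncomputable def addP (ap an bp bn : ℕ) : ℕ :=
  Nat.xor (Nat.lor an bn) (Nat.xor (Nat.lor ap bn) (Nat.lor an bp))

/-- negative part of a sum -/
noncomputable def addN (ap an bp bn : ℕ) : ℕ :=
  Nat.xor (Nat.lor ap bp) (Nat.xor (Nat.lor ap bn) (Nat.lor an bp))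

/-- signed sum of the listed columns -/
noncomputable def sumK (t : T) (l : List ℕ) : ℕ → ℕ → T :=
  List.rec (motive := fun _ => ℕ → ℕ → T) (fun ap an => T.leaf ap an)
    (fun e _ ih ap an => getK t (Nat.shiftRight e 1) fun bp bn =>
      Bool.rec (ih (addP ap an bp bn) (addN ap an bp bn)) (ih (addP ap an bn bp) (addN ap an bn bp))
        (Nat.beq (Nat.land e 1) 1)) l

/-- product with a generator matrix -/
noncomputable def mul (t : T) (g : CT) : T :=
  CT.rec (motive := fun _ => T) (fun code => sumK t (entries code) 0 0) (fun _ _ a b => T.node a b) g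

/-- the unit matrix below a depth -/
noncomputable def idAux (d : ℕ) : ℕ → ℕ → T :=
  Nat.rec (motive := fun _ => ℕ → ℕ → T) (fun i _ => T.leaf (Bool.rec 0 (Nat.shiftLeft 1 i) (Nat.ble (i + 1) 248)) 0)
    (fun _ ih i k => T.node (ih i (2 * k)) (ih (i + k) (2 * k))) d

/-- the unit matrix -/
noncomputable def idT : T := idAux 8 0 1

/-- equality of trees -/
noncomputable def beqT (a : T) : T → Bool :=
  T.rec (motive := fun _ => T → Bool)
    (fun p n b => T.rec (motive := fun _ => Bool) (fun q m => Bool.rec false (Nat.beq n m) (Nat.beq p q))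
      (fun _ _ _ _ => false) b)
    (fun _ _ fl fr b => T.rec (motive := fun _ => Bool) (fun _ _ => false)
      (fun l r _ _ => Bool.rec false (fr r) (fl l)) b) a

/-- product along a word -/
noncomputable def evalW (w : List CT) : T := w.foldl mul idT

/-- packed column `i` of a generator -/
noncomputable def getG (g : CT) : ℕ → ℕ :=
  CT.rec (motive := fun _ => ℕ → ℕ) (fun code _ => code)
    (fun _ _ gl gr i => Bool.rec (gl (Nat.shiftRight i 1)) (gr (Nat.shiftRight i 1))
      (Nat.beq (Nat.land i 1) 1)) g

/-- all row numbers of a generator are below 248 -/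
noncomputable def okG (g : CT) : Bool :=
  CT.rec (motive := fun _ => Bool) (fun code => (entries code).all fun e => Nat.ble (Nat.shiftRight e 1 + 1) 248)
    (fun _ _ a b => Bool.rec false b a) g

/-- value of two bits -/
def val (p n i : ℕ) : ZMod 3 := bif Nat.testBit p i then 1 else bif Nat.testBit n i then 2 else 0

/-- no position is both positive and negative -/
def WF (p n : ℕ) : Prop := ∀ i, Nat.testBit p i = true → Nat.testBit n i = false

/-- all columns are consistent -/
def WFT (t : T) : Prop := ∀ j, getK t j WF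

/-- the matrix of a tree -/
noncomputable def toMat (t : T) : Matrix (Fin 248) (Fin 248) (ZMod 3) :=
  Matrix.of fun i j => getK t j.1 fun p n => val p n i.1

/-- sign of an entry -/
noncomputable def sgn (e : ℕ) : ZMod 3 := Bool.rec 1 2 (Nat.beq (Nat.land e 1) 1)

/-- the matrix of a generator tree -/
noncomputable def toMatG (g : CT) : Matrix (Fin 248) (Fin 248) (ZMod 3) :=
  Matrix.of fun i j => ((entries (getG g j.1)).map fun e => if Nat.shiftRight e 1 = i.1 then sgn e else 0).sum

theorem getK_eq {α : Type} (t : T) (i : ℕ) (f : ℕ → ℕ → α) :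
    getK t i f = f (getK t i fun p _ => p) (getK t i fun _ n => n) := by
  induction t generalizing i with
  | leaf p n => rfl
  | node l r ihl ihr =>
    show Bool.rec (getK l _ f) (getK r _ f) (Nat.beq (Nat.land i 1) 1) =
      f (Bool.rec (getK l _ _) (getK r _ _) (Nat.beq (Nat.land i 1) 1))
        (Bool.rec (getK l _ _) (getK r _ _) (Nat.beq (Nat.land i 1) 1))
    cases Nat.beq (Nat.land i 1) 1 with
    | false => exact ihl _
    | true => exact ihr _

theorem add_spec {ap an bp bn : ℕ} (ha : WF ap an) (hb : WF bp bn) :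
    WF (addP ap an bp bn) (addN ap an bp bn) ∧
      ∀ i, val (addP ap an bp bn) (addN ap an bp bn) i = val ap an i + val bp bn i := by
  have hP : ∀ i, Nat.testBit (addP ap an bp bn) i = ((an.testBit i || bn.testBit i) ^^
      ((ap.testBit i || bn.testBit i) ^^ (an.testBit i || bp.testBit i))) := fun i => by
    show Nat.testBit ((an ||| bn) ^^^ ((ap ||| bn) ^^^ (an ||| bp))) i = _
    simp [Nat.testBit_xor, Nat.testBit_or]
  have hN : ∀ i, Nat.testBit (addN ap an bp bn) i = ((ap.testBit i || bp.testBit i) ^^
      ((ap.testBit i || bn.testBit i) ^^ (an.testBit i || bp.testBit i))) := fun i => by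
    show Nat.testBit ((ap ||| bp) ^^^ ((ap ||| bn) ^^^ (an ||| bp))) i = _
    simp [Nat.testBit_xor, Nat.testBit_or]
  refine ⟨fun i => ?_, fun i => ?_⟩
  · rw [hP, hN]
    have := ha i; have := hb i
    cases h1 : ap.testBit i <;> cases h2 : an.testBit i <;> cases h3 : bp.testBit i <;>
      cases h4 : bn.testBit i <;> simp_all
  · simp only [val, hP, hN]
    have := ha i; have := hb i
    cases h1 : ap.testBit i <;> cases h2 : an.testBit i <;> cases h3 : bp.testBit i <;>
      cases h4 : bn.testBit i <;> simp_all <;> decide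

theorem wf_swap {p n : ℕ} (h : WF p n) : WF n p := fun i hi => by
  cases hp : p.testBit i with
  | false => rfl
  | true => exact absurd hi (by simp [h i hp])

theorem val_swap {p n : ℕ} (h : WF p n) (i : ℕ) : val n p i = 2 * val p n i := by
  have := h i
  simp only [val]
  cases hp : p.testBit i <;> cases hn : n.testBit i <;> simp_all <;> decide

theorem sumK_spec {t : T} (ht : WFT t) : ∀ (l : List ℕ) (ap an : ℕ), WF ap an →
    ∃ p n, sumK t l ap an = T.leaf p n ∧ WF p n ∧ ∀ i, val p n i = val ap an i +
      (l.map fun e => sgn e * getK t (Nat.shiftRight e 1) fun p n => val p n i).sum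
  | [], ap, an, h => ⟨ap, an, rfl, h, fun i => by simp⟩
  | e :: l, ap, an, h => by
    have e0 : sumK t (e :: l) ap an = getK t (Nat.shiftRight e 1) fun bp bn =>
        Bool.rec (sumK t l (addP ap an bp bn) (addN ap an bp bn))
          (sumK t l (addP ap an bn bp) (addN ap an bn bp)) (Nat.beq (Nat.land e 1) 1) := rfl
    rw [e0, getK_eq]
    have hb := ht (Nat.shiftRight e 1)
    rw [getK_eq] at hb
    have hv : ∀ i, getK t (Nat.shiftRight e 1) (fun p n => val p n i) =
        val (getK t (Nat.shiftRight e 1) fun p _ => p) (getK t (Nat.shiftRight e 1) fun _ n => n) i :=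
      fun i => getK_eq ..
    simp only [List.map_cons, List.sum_cons, hv, sgn]
    cases Nat.beq (Nat.land e 1) 1 with
    | false =>
      obtain ⟨p, n, h1, h2, h3⟩ := sumK_spec ht l _ _ (add_spec h hb).1
      refine ⟨p, n, h1, h2, fun i => ?_⟩
      rw [h3, (add_spec h hb).2]
      simp only [sgn, hv]
      ring
    | true =>
      obtain ⟨p, n, h1, h2, h3⟩ := sumK_spec ht l _ _ (add_spec h (wf_swap hb)).1
      refine ⟨p, n, h1, h2, fun i => ?_⟩
      rw [h3, (add_spec h (wf_swap hb)).2, val_swap hb]
      simp only [sgn, hv]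
      ring

theorem getK_mul {t : T} : ∀ (g : CT) (j : ℕ), WFT t → ∃ p n, (∀ {α : Type} (f : ℕ → ℕ → α),
    getK (mul t g) j f = f p n) ∧ WF p n ∧ ∀ i, val p n i =
      ((entries (getG g j)).map fun e => sgn e * getK t (Nat.shiftRight e 1) fun p n => val p n i).sum
  | .leaf code, j, ht => by
    obtain ⟨p, n, h1, h2, h3⟩ := sumK_spec ht (entries code) 0 0 (fun i hi => by simp at hi)
    refine ⟨p, n, fun f => ?_, h2, fun i => ?_⟩
    · show getK (sumK t (entries code) 0 0) j f = f p n
      rw [h1]; rfl
    · rw [h3]; simp [val, getG]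
  | .node l r, j, ht => by
    have e1 : ∀ {α : Type} (f : ℕ → ℕ → α), getK (mul t (.node l r)) j f =
        Bool.rec (getK (mul t l) (Nat.shiftRight j 1) f) (getK (mul t r) (Nat.shiftRight j 1) f)
          (Nat.beq (Nat.land j 1) 1) := fun f => rfl
    have e2 : getG (.node l r) j = Bool.rec (getG l (Nat.shiftRight j 1)) (getG r (Nat.shiftRight j 1))
        (Nat.beq (Nat.land j 1) 1) := rfl
    simp only [e1, e2]
    cases Nat.beq (Nat.land j 1) 1 with
    | false => exact getK_mul l _ ht
    | true => exact getK_mul r _ ht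

theorem wft_mul {t : T} (ht : WFT t) (g : CT) : WFT (mul t g) := fun j => by
  obtain ⟨p, n, h1, h2, -⟩ := getK_mul g j ht
  rw [h1]; exact h2

theorem okG_spec : ∀ (g : CT) (j : ℕ), okG g = true → ∀ e ∈ entries (getG g j), Nat.shiftRight e 1 < 248
  | .leaf code, j, h, e, he => by
    exact Nat.le_of_ble_eq_true (List.all_eq_true.1 h e he)
  | .node l r, j, h, e, he => by
    have h' : Bool.rec false (okG r) (okG l) = true := h
    have hl : okG l = true ∧ okG r = true := by
      cases hl : okG l <;> simp_all
    have he' : e ∈ entries (Bool.rec (getG l (Nat.shiftRight j 1)) (getG r (Nat.shiftRight j 1))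
        (Nat.beq (Nat.land j 1) 1)) := he
    revert he'
    cases Nat.beq (Nat.land j 1) 1 with
    | false => exact fun he' => okG_spec l _ hl.1 e he'
    | true => exact fun he' => okG_spec r _ hl.2 e he'

theorem toMat_mul {t : T} (ht : WFT t) {g : CT} (hg : okG g = true) :
    toMat (mul t g) = toMat t * toMatG g := by
  ext i j
  obtain ⟨p, n, h1, -, h3⟩ := getK_mul g j.1 ht
  rw [Matrix.mul_apply]
  simp only [toMat, toMatG, Matrix.of_apply]
  rw [h1, h3]
  have key : ∀ L : List ℕ, (∀ e ∈ L, Nat.shiftRight e 1 < 248) →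
      (L.map fun e => sgn e * getK t (Nat.shiftRight e 1) fun p n => val p n i.1).sum =
        ∑ k : Fin 248, (getK t k.1 fun p n => val p n i.1) *
          (L.map fun e => if Nat.shiftRight e 1 = k.1 then sgn e else 0).sum := by
    intro L hL
    induction L with
    | nil => simp only [List.map_nil, List.sum_nil, mul_zero, Finset.sum_const_zero]
    | cons e L ih =>
      simp only [List.map_cons, List.sum_cons, mul_add, Finset.sum_add_distrib]
      rw [← ih fun e' he' => hL e' (List.mem_cons_of_mem _ he')]
      refine congrArg₂ (· + ·) ?_ rfl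
      rw [Finset.sum_eq_single (⟨_, hL e List.mem_cons_self⟩ : Fin 248)]
      · rw [if_pos rfl, mul_comm]
      · intro k _ hk
        rw [if_neg fun h => hk (Fin.ext h.symm), mul_zero]
      · simp
  exact key _ (okG_spec g j.1 hg)

theorem getK_idAux : ∀ (d i k j : ℕ) {α : Type} (f : ℕ → ℕ → α), getK (idAux d i k) j f =
    f (Bool.rec 0 (Nat.shiftLeft 1 (i + k * (j % 2 ^ d))) (Nat.ble (i + k * (j % 2 ^ d) + 1) 248)) 0
  | 0, i, k, j, α, f => by
    simp only [pow_zero, Nat.mod_one, mul_zero, add_zero]; rfl
  | d + 1, i, k, j, α, f => by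
    have e1 : getK (idAux (d + 1) i k) j f = Bool.rec (getK (idAux d i (2 * k)) (Nat.shiftRight j 1) f)
        (getK (idAux d (i + k) (2 * k)) (Nat.shiftRight j 1) f) (Nat.beq (Nat.land j 1) 1) := rfl
    have ej : Nat.shiftRight j 1 = j / 2 := Nat.shiftRight_eq_div_pow j 1
    have el : Nat.land j 1 = j % 2 := Nat.and_one_is_mod j
    rw [e1, getK_idAux d _ _ _ f, getK_idAux d _ _ _ f, ej, el, pow_succ', Nat.mod_mul]
    rcases Nat.mod_two_eq_zero_or_one j with h | h
    · rw [h, show Nat.beq 0 1 = false from rfl, zero_add, ← mul_assoc, mul_comm k 2]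
    · rw [h, show Nat.beq 1 1 = true from rfl]
      rw [show i + k + 2 * k * (j / 2 % 2 ^ d) = i + k * (1 + 2 * (j / 2 % 2 ^ d)) by ring]

theorem wft_idT : WFT idT := fun j => by
  rw [idT, getK_idAux]
  exact fun i _ => Nat.zero_testBit i

theorem toMat_idT : toMat idT = 1 := by
  ext i j
  simp only [toMat, Matrix.of_apply, idT]
  have hj : j.1 % 2 ^ 8 = j.1 := Nat.mod_eq_of_lt (by have := j.2; omega)
  rw [getK_idAux, hj, one_mul, zero_add, show Nat.ble (j.1 + 1) 248 = true from
    Nat.ble_eq_true_of_le j.2, val, Nat.zero_testBit]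
  show (bif Nat.testBit (1 <<< j.1) i.1 then (1 : ZMod 3) else _) = _
  rw [Nat.one_shiftLeft, Nat.testBit_two_pow, Matrix.one_apply]
  by_cases h : i = j
  · simp [h]
  · have : ¬ j.1 = i.1 := fun e => h (Fin.ext e.symm)
    simp [h, this]

theorem beqT_eq : ∀ {a b : T}, beqT a b = true → a = b
  | .leaf p n, .leaf q m, h => by
    have h' : Bool.rec false (Nat.beq n m) (Nat.beq p q) = true := h
    cases hp : Nat.beq p q <;> rw [hp] at h'
    · exact absurd h' Bool.false_ne_true
    · rw [Nat.eq_of_beq_eq_true hp, Nat.eq_of_beq_eq_true h']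
  | .leaf _ _, .node _ _, h => absurd h (by show ¬ false = true; decide)
  | .node _ _, .leaf _ _, h => absurd h (by show ¬ false = true; decide)
  | .node l r, .node l' r', h => by
    have h' : Bool.rec false (beqT r r') (beqT l l') = true := h
    cases hl : beqT l l' <;> rw [hl] at h'
    · exact absurd h' Bool.false_ne_true
    · rw [beqT_eq hl, beqT_eq h']

theorem toMat_foldl : ∀ (w : List CT) {t : T}, WFT t → (∀ g ∈ w, okG g = true) →
    toMat (w.foldl mul t) = toMat t * (w.map toMatG).prod
  | [], t, _, _ => by simp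
  | g :: w, t, ht, hw => by
    rw [List.foldl_cons, toMat_foldl w (wft_mul ht g) (fun x hx => hw x (List.mem_cons_of_mem _ hx)),
      toMat_mul ht (hw g List.mem_cons_self), List.map_cons, List.prod_cons, mul_assoc]

theorem prod_eq_one {w : List CT} (hw : ∀ g ∈ w, okG g = true) (h : beqT (evalW w) idT = true) :
    (w.map toMatG).prod = 1 := by
  have e := toMat_foldl w wft_idT hw
  rw [show w.foldl mul idT = idT from beqT_eq h, toMat_idT, one_mul] at e
  exact e.symm

end Cfsg.Agent.Lib.Th22
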