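import Cfsg.Agent.Lib.Th22.Data

/-! Row numbers in range, and a non-unit generator. -/

set_option autoImplicit false
set_option maxRecDepth 20000

namespace Cfsg.Agent.Lib.Th22

theorem okA : okG gA = true := by decide +kernel

theorem okB : okG gB = true := by decide +kernel

theorem okC : okG gC = true := by decide +kernel

theorem okD : okG gD = true := by decide +kernel

theorem okE : okG gE = true := by decide +kernel

theorem okS : okG gS = true := by decide +kernel

theorem okSi : okG gSi = true := by decide +kernel

theorem okT : okG gT = true := by decide +kernel

theorem okTi : okG gTi = true := by decide +kernel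

theorem okU : okG gU = true := by decide +kernel

theorem okUi : okG gUi = true := by decide +kernel

theorem toMatG_b_ne_one : toMatG gB ≠ 1 := by
  intro h
  have h' : ((entries (getG gB 1)).map fun e => if Nat.shiftRight e 1 = 0 then sgn e else 0).sum = 0 :=
    (congrFun (congrFun h (0 : Fin 248)) (1 : Fin 248))
  revert h'
  decide +kernel

end Cfsg.Agent.Lib.Th22
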