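import Cfsg.Agent.Lib.Th22.Main
import Cfsg.Agent.Lib.Th55.Final
import Cfsg.Agent.Lib.ThK83.Simple

/-!
The matrix realisation from the covering derivation and the divisor of the order.
-/

set_option autoImplicit false

namespace Cfsg.Agent.Lib.Th22

open Cfsg.Spor
open Cfsg.Agent.Lib.Th23 (ThCover)

theorem thompson_matrix (Z : ThCover) (hdvd : 90745943887872000 ∣ Nat.card Th) :
    ∃ H : Subgroup (GL (Fin 248) (ZMod 3)), Cfsg.IsTh H ∧ ∃ K : Subgroup H, K.index = 143127000 ∧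
      ∃ L : Subgroup H, L ≤ K ∧ Cfsg.Is3D4 L :=
  matrix_realization (Th55.isSimpleGroup_th Z hdvd) (Th55.th_card Z hdvd)
    (Th55.th_index Z hdvd) ThK83.Kzero ThK83.is3D4_Kzero

end Cfsg.Agent.Lib.Th22
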