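import Cfsg.Agent.Lib.Th22.Rep
import Cfsg.Agent.Lib.ThK83.Kbar
import Cfsg.Prelude.Def_Sporadic
import Cfsg.Prelude.Def_Exceptional

/-!
The matrix realisation over the field with three elements, given the order, the simplicity and the
index of `⟨a, …, t⟩` for the presented group.
-/

set_option autoImplicit false

namespace Cfsg.Agent.Lib.Th22

open Cfsg.Spor

/-- `⟨a, b, c, d, e, s, t⟩` -/
def kSub : Subgroup Th :=
  Subgroup.closure {PresentedGroup.of Th.Gen.a, PresentedGroup.of Th.Gen.b, PresentedGroup.of Th.Gen.c,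
    PresentedGroup.of Th.Gen.d, PresentedGroup.of Th.Gen.e, PresentedGroup.of Th.Gen.s,
    PresentedGroup.of Th.Gen.t}

theorem matrix_realization (hsimple : IsSimpleGroup Th) (hcard : Nat.card Th = 90745943887872000)
    (hidx : kSub.index = 143127000) (K0 : Subgroup ThK83.Kbar) (hK0 : Cfsg.Is3D4 K0) :
    ∃ H : Subgroup (GL (Fin 248) (ZMod 3)), Cfsg.IsTh H ∧ ∃ K : Subgroup H, K.index = 143127000 ∧
      ∃ L : Subgroup H, L ≤ K ∧ Cfsg.Is3D4 L := by
  have : Finite Th := (Nat.card_ne_zero.1 (by omega)).2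
  have hinj : Function.Injective rho := by
    rw [← MonoidHom.ker_eq_bot_iff]
    rcases hsimple.eq_bot_or_eq_top_of_normal _ (MonoidHom.normal_ker rho) with h | h
    · exact h
    · obtain ⟨g, hg⟩ := rho_nontrivial
      exact absurd (MonoidHom.mem_ker.1 (h ▸ Subgroup.mem_top g)) hg
  let e : Th ≃* rho.range := MonoidHom.ofInjective hinj
  obtain ⟨φ, -, hr⟩ := ThK83.exists_hom ThK83.kRel_th
  have hr' : φ.range = kSub := hr
  have hk : Nat.card kSub = 634023936 := by
    have := kSub.index_mul_card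
    rw [hidx, hcard] at this
    omega
  have : Finite ThK83.Kbar := (Nat.card_ne_zero.1 (by rw [ThK83.card_Kbar]; omega)).2
  have hφ : Function.Injective φ := by
    have hsurj : Function.Surjective φ.rangeRestrict := φ.rangeRestrict_surjective
    have hb := hsurj.bijective_of_nat_card_le (by rw [ThK83.card_Kbar, hr', hk])
    exact MonoidHom.rangeRestrict_injective_iff.1 hb.1
  refine ⟨rho.range, ⟨MulEquiv.isSimpleGroup e.symm, ?_⟩, kSub.map e.toMonoidHom, ?_,
    (K0.map φ).map e.toMonoidHom, Subgroup.map_mono ?_, ?_⟩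
  · rw [← hcard]; exact (Nat.card_congr e.toEquiv).symm
  · exact (Subgroup.index_map_of_bijective (f := e.toMonoidHom) e.bijective kSub).trans hidx
  · rw [← hr', MonoidHom.range_eq_map]
    exact Subgroup.map_mono le_top
  · let f : K0 ≃* (K0.map φ).map e.toMonoidHom :=
      (K0.equivMapOfInjective φ hφ).trans ((K0.map φ).equivMapOfInjective _ e.injective)
    obtain ⟨h1, q, hq, hc⟩ := hK0
    have := h1
    exact ⟨MulEquiv.isSimpleGroup f.symm, q, hq, by rw [← hc]; exact (Nat.card_congr f.toEquiv).symm⟩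

end Cfsg.Agent.Lib.Th22
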