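import Cfsg.Agent.Lib.Th22.Checks
import Cfsg.Agent.Lib.Th22.DataOK
import Mathlib.LinearAlgebra.Matrix.GeneralLinearGroup.Defs

/-!
The representation of the presented Thompson group on 248 coordinates over the field with three elements.
-/

set_option autoImplicit false

namespace Cfsg.Agent.Lib.Th22

open Cfsg.Spor

theorem okG_letter : ∀ x : Th.Gen × Bool, okG (letterCT x) = true
  | (.a, true) => okA | (.a, false) => okA
  | (.b, true) => okB | (.b, false) => okB
  | (.c, true) => okC | (.c, false) => okC
  | (.d, true) => okD | (.d, false) => okD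
  | (.e, true) => okE | (.e, false) => okE
  | (.s, true) => okS | (.s, false) => okSi
  | (.t, true) => okT | (.t, false) => okTi
  | (.u, true) => okU | (.u, false) => okUi

theorem prod_word {i : ℕ} (hi : i < 55) :
    (((allWords.getD i []).map letterCT).map toMatG).prod = 1 :=
  prod_eq_one (fun g hg => by obtain ⟨x, -, rfl⟩ := List.mem_map.1 hg; exact okG_letter x)
    (checkWord_all i hi)

/-- the number of the word `x x⁻¹` -/
def invIx : Th.Gen → ℕ
  | .a => 39 | .b => 41 | .c => 43 | .d => 45 | .e => 47 | .s => 49 | .t => 51 | .u => 53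

theorem invIx_lt : ∀ x, invIx x + 1 < 55 := by intro x; cases x <;> decide

/-- image of a generator -/
noncomputable def genU (x : Th.Gen) : GL (Fin 248) (ZMod 3) where
  val := toMatG (letterCT (x, true))
  inv := toMatG (letterCT (x, false))
  val_inv := by
    have h := prod_word (i := invIx x) (Nat.lt_of_succ_lt (invIx_lt x))
    have e : allWords.getD (invIx x) [] = [(x, true), (x, false)] := by cases x <;> rfl
    rw [e] at h
    simpa only [List.map_cons, List.map_nil, List.prod_cons, List.prod_nil, mul_one] using h
  inv_val := by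
    have h := prod_word (i := invIx x + 1) (invIx_lt x)
    have e : allWords.getD (invIx x + 1) [] = [(x, false), (x, true)] := by cases x <;> rfl
    rw [e] at h
    simpa only [List.map_cons, List.map_nil, List.prod_cons, List.prod_nil, mul_one] using h

theorem val_letter (x : Th.Gen × Bool) :
    ((cond x.2 (genU x.1) (genU x.1)⁻¹ : GL (Fin 248) (ZMod 3)) : Matrix (Fin 248) (Fin 248) (ZMod 3)) =
      toMatG (letterCT x) := by
  obtain ⟨g, b⟩ := x
  cases b <;> rfl

theorem val_prod : ∀ L : List (Th.Gen × Bool),
    (((L.map fun x => cond x.2 (genU x.1) (genU x.1)⁻¹).prod : GL (Fin 248) (ZMod 3)) :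
      Matrix (Fin 248) (Fin 248) (ZMod 3)) = ((L.map letterCT).map toMatG).prod
  | [] => rfl
  | x :: L => by
    simp only [List.map_cons, List.prod_cons, Units.val_mul, val_letter, val_prod L]

theorem lift_rel : ∀ r ∈ coxRelators Th.edges ∪ {r | r ∈ Th.extra}, FreeGroup.lift genU r = 1 := by
  rintro r (⟨x, hx, -⟩ | hr)
  · exact absurd hx (by simp [coxNodes, Th.edges])
  · have hr' : r ∈ relWords.map FreeGroup.mk := extra_eq ▸ hr
    obtain ⟨L, hL, rfl⟩ := List.mem_map.1 hr'
    obtain ⟨i, hi, rfl⟩ := List.getElem_of_mem hL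
    have h39 : relWords.length = 39 := rfl
    have e : allWords.getD i [] = relWords[i] := by
      rw [allWords, List.getD_append _ _ _ _ hi, List.getD_eq_getElem _ _ hi]
    rw [FreeGroup.lift_mk]
    refine Units.ext ?_
    rw [val_prod, ← e]
    exact prod_word (by omega)

/-- the representation -/
noncomputable def rho : Th →* GL (Fin 248) (ZMod 3) := PresentedGroup.toGroup lift_rel

theorem rho_of (x : Th.Gen) : rho (PresentedGroup.of x) = genU x := PresentedGroup.toGroup.of lift_rel

theorem genU_b_ne_one : genU .b ≠ 1 := by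
  intro h
  have e := congrArg (fun g : GL (Fin 248) (ZMod 3) => (g : Matrix (Fin 248) (Fin 248) (ZMod 3))) h
  exact toMatG_b_ne_one e

theorem rho_nontrivial : ∃ g, rho g ≠ 1 := ⟨PresentedGroup.of .b, by rw [rho_of]; exact genU_b_ne_one⟩

end Cfsg.Agent.Lib.Th22
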