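import Cfsg.Agent.Lib.Th22.Data
import Cfsg.Prelude.Def_Spor_Th

/-! The relators as explicit words and the matrix of a letter. -/

set_option autoImplicit false

namespace Cfsg.Agent.Lib.Th22

open Cfsg.Spor

/-- matrix of a letter -/
def letterCT : Th.Gen × Bool → CT
  | (.a, true) => gA
  | (.a, false) => gA
  | (.b, true) => gB
  | (.b, false) => gB
  | (.c, true) => gC
  | (.c, false) => gC
  | (.d, true) => gD
  | (.d, false) => gD
  | (.e, true) => gE
  | (.e, false) => gE
  | (.s, true) => gS
  | (.s, false) => gSi
  | (.t, true) => gT
  | (.t, false) => gTi
  | (.u, true) => gU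
  | (.u, false) => gUi

/-- the relators -/
def relWords : List (List (Th.Gen × Bool)) := [
  [(.a, true), (.a, true)],
  [(.b, true), (.b, true)],
  [(.c, true), (.c, true)],
  [(.d, true), (.d, true)],
  [(.e, true), (.e, true)],
  [(.a, true), (.b, true), (.a, true), (.b, true), (.a, true), (.b, true)],
  [(.a, true), (.e, true), (.a, true), (.e, true)],
  [(.b, true), (.c, true), (.b, true), (.c, true), (.b, true), (.c, true)],
  [(.b, true), (.d, true), (.b, true), (.d, true)],
  [(.b, true), (.e, true), (.b, true), (.e, true)],
  [(.a, true), (.d, false), (.c, false), (.d, false), (.c, false), (.d, false), (.c, false), (.d, false), (.c, false)],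
  [(.c, true), (.e, true), (.c, true), (.e, true)],
  [(.d, true), (.e, true), (.d, true), (.e, true), (.d, true), (.e, true)],
  [(.b, true), (.c, true), (.d, true), (.e, true), (.b, true), (.c, true), (.d, true), (.e, true), (.b, true), (.c, true), (.d, true), (.e, true), (.b, true), (.c, true), (.d, true), (.e, true), (.b, true), (.c, true), (.d, true), (.e, true), (.b, true), (.c, true), (.d, true), (.e, true), (.b, true), (.c, true), (.d, true), (.e, true), (.b, true), (.c, true), (.d, true), (.e, true)],
  [(.s, true), (.s, true), (.s, true), (.s, true), (.s, true), (.s, true), (.s, true)],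
  [(.s, false), (.a, false), (.s, true), (.a, true)],
  [(.s, false), (.b, false), (.s, true), (.b, true)],
  [(.s, false), (.c, false), (.s, true), (.c, true)],
  [(.s, true), (.d, true), (.s, true), (.d, true)],
  [(.e, false), (.s, false), (.e, true), (.s, true), (.s, false), (.s, false), (.s, false), (.e, false), (.s, true), (.s, true), (.s, true)],
  [(.t, true), (.t, true), (.t, true)],
  [(.t, false), (.a, false), (.t, true), (.a, true)],
  [(.t, false), (.b, false), (.t, true), (.b, true)],
  [(.t, false), (.c, false), (.t, true), (.c, true)],
  [(.t, false), (.d, false), (.t, true), (.d, true)],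
  [(.t, false), (.e, false), (.t, true), (.e, true)],
  [(.t, false), (.s, true), (.t, true), (.s, false), (.s, false)],
  [(.u, true), (.u, true), (.c, false), (.a, false)],
  [(.u, false), (.a, false), (.u, true), (.a, true)],
  [(.u, false), (.c, false), (.u, true), (.c, true)],
  [(.u, false), (.e, false), (.u, true), (.e, true)],
  [(.d, true), (.e, true), (.u, false), (.d, true), (.u, true), (.d, true), (.e, true), (.u, false), (.d, true), (.u, true)],
  [(.u, false), (.b, false), (.c, false), (.a, false), (.b, true), (.u, true), (.b, false), (.a, true), (.c, true), (.b, true), (.e, false)],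
  [(.d, false), (.u, false), (.d, true), (.b, false), (.c, false), (.a, false), (.b, true), (.d, false), (.u, true), (.d, true), (.b, false), (.a, true), (.c, true), (.b, true), (.c, false), (.e, false), (.d, false), (.u, false), (.d, true), (.b, false), (.c, false), (.a, false), (.b, true), (.e, false), (.u, false)],
  [(.u, false), (.t, true), (.u, true), (.t, true)],
  [(.e, false), (.s, false), (.s, false), (.u, false), (.s, true), (.s, true), (.e, true), (.s, false), (.s, false), (.u, true), (.s, true), (.s, true)],
  [(.a, true), (.c, true), (.s, false), (.u, false), (.s, false), (.u, false), (.s, false), (.u, false)],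
  [(.a, true), (.c, true), (.s, false), (.u, false), (.s, true), (.u, true), (.s, false), (.u, false), (.s, true), (.u, true), (.s, false), (.u, false), (.s, true), (.u, true), (.s, false), (.u, false), (.s, true), (.u, true)],
  [(.d, true), (.s, false), (.s, false), (.u, true), (.s, true), (.s, true), (.d, true), (.s, false), (.s, false), (.u, true), (.s, true), (.s, true), (.d, true), (.s, false), (.s, false), (.u, true), (.s, true), (.s, true), (.d, true), (.s, false), (.s, false), (.u, true), (.s, true), (.s, true), (.s, false), (.s, false), (.e, false), (.d, false), (.c, false), (.d, true), (.e, true), (.s, true), (.s, true), (.s, true), (.e, false), (.d, false), (.c, false), (.d, true), (.e, true), (.s, false), (.d, false), (.c, false), (.d, true), (.c, false), (.a, false)]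
]

theorem extra_eq : Th.extra = relWords.map FreeGroup.mk := rfl

/-- the words for inverses -/
def invWords : List (List (Th.Gen × Bool)) := [
  [(.a, true), (.a, false)],
  [(.a, false), (.a, true)],
  [(.b, true), (.b, false)],
  [(.b, false), (.b, true)],
  [(.c, true), (.c, false)],
  [(.c, false), (.c, true)],
  [(.d, true), (.d, false)],
  [(.d, false), (.d, true)],
  [(.e, true), (.e, false)],
  [(.e, false), (.e, true)],
  [(.s, true), (.s, false)],
  [(.s, false), (.s, true)],
  [(.t, true), (.t, false)],
  [(.t, false), (.t, true)],
  [(.u, true), (.u, false)],
  [(.u, false), (.u, true)]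
]

/-- the words which have to give the unit matrix -/
def allWords : List (List (Th.Gen × Bool)) := relWords ++ invWords

/-- word `i` gives the unit matrix -/
noncomputable def checkWord (i : ℕ) : Bool := beqT (evalW ((allWords.getD i []).map letterCT)) idT

end Cfsg.Agent.Lib.Th22
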